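import Groth.Agent.AS24.Vanish
import Groth.Agent.TopFin24.Basic

/-!
# Surjectivity of Artin–Schreier in the top degree
-/

set_option autoImplicit false
set_option linter.all false
set_option backward.isDefEq.respectTransparency false
set_option backward.isDefEq.respectTransparency.types false
set_option synthInstance.maxHeartbeats 400000
set_option maxHeartbeats 1000000

universe u

open CategoryTheory CategoryTheory.Limits CategoryTheory.Abelian AlgebraicGeometry Opposite

namespace Groth.Agent.AS24

open Groth.Agent.EtASLib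

/-- Artin–Schreier is surjective in a degree where the cohomology of `O` is finite dimensional. -/
theorem as_surjective_of_finite {X : Scheme.{u}} (p : ℕ) [hp : Fact p.Prime] (h0 : (p : Γ(X, ⊤)) = 0)
    (k : Type u) [Field k] [IsSepClosed k] [CharP k p] [X.Over (Spec (CommRingCat.of k))] (q : ℕ)
    (hfin : Module.Finite k (Coh.HH X (Coh.structureModule X) q)) :
    Function.Surjective ((EtCoh.HF X q).map (asMap p h0)) := by
  haveI : EtZar.ZarCont X := Groth.Agent.Desc19b.EtQCoh.zarCont X
  let V := Coh.HH X (Coh.structureModule X) q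
  haveI : Module.Finite k V := hfin
  let E : V ≃+ EtCoh.H X (EtCoh.Ga X) q := AddEquiv.ofBijective (EtASLib.cmp q) (cmp_bijective q)
  let φ : k →+* Γ(X, ⊤) := Groth.Agent.Coherent.baseHom k X
  have hsmul : ∀ (a : k) (v : V), E (a • v) = (EtCoh.HF X q).map (mulMap (φ a)) (E v) :=
    fun a v => cmp_smul q (φ a) v
  let T : V →+ V := E.symm.toAddMonoidHom.comp
    (((EtCoh.HF X q).map (frobMap p h0)).hom.comp E.toAddMonoidHom)
  have hET : ∀ v, E (T v) = (EtCoh.HF X q).map (frobMap p h0) (E v) := fun v => E.apply_symm_apply _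
  have hT : ∀ (a : k) (v : V), T (a • v) = a ^ p • T v := fun a v => E.injective (by
    rw [hET, hsmul, hsmul, hET, map_pow, ← ConcreteCategory.comp_apply, ← Functor.map_comp, mulMap_frobMap,
      Functor.map_comp, ConcreteCategory.comp_apply])
  have hAS : ∀ v, (EtCoh.HF X q).map (asMap p h0) (E v) = E (T v - v) := fun v => by
    rw [map_sub, hET]
    show (E v).comp (Ext.mk₀ (asMap p h0)) (add_zero q) = (E v).comp (Ext.mk₀ (asMap p h0 + 𝟙 _)) (add_zero q) - E v
    rw [Ext.mk₀_add, Ext.comp_add, Ext.comp_mk₀_id, add_sub_cancel_right]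
  intro y
  obtain ⟨v, hv⟩ := Groth.Agent.Et18.QLinear.surjective_sub (p := p) (r := 1) one_pos T
    (fun c v => by rw [pow_one]; exact hT c v) (-(E.symm y))
  refine ⟨E v, (hAS v).trans ?_⟩
  rw [show T v - v = E.symm y from by rw [← neg_sub]; exact neg_eq_iff_eq_neg.2 hv, E.apply_symm_apply]

/-- `H^q(X, ℤ/p) = 0` for `q > dim X`. -/
theorem subsingleton_const_above_dim (k : Type u) [Field k] [IsSepClosed k] (p : ℕ) [hp : Fact p.Prime]
    [CharP k p] (X : Scheme.{u}) (f : X ⟶ Spec (CommRingCat.of k)) [IsSeparated f] [LocallyOfFiniteType f]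
    [QuasiCompact f] (d : ℕ) (hd : topologicalKrullDim X ≤ d) (q : ℕ) (hq : d + 1 ≤ q) :
    Subsingleton (EtCoh.H X (EtCoh.const X (ZMod p)) q) := by
  haveI : CompactSpace X := QuasiCompact.compactSpace_of_compactSpace f
  haveI : QuasiSeparatedSpace X := quasiSeparatedSpace_of_quasiSeparated f
  haveI : IsLocallyNoetherian X := LocallyOfFiniteType.isLocallyNoetherian f
  have h0 := natCast_eq_zero_of_over (p := p) f
  rcases Nat.lt_or_ge q (d + 2) with h | h
  · obtain rfl : q = d + 1 := by omega
    letI : X.Over (Spec (CommRingCat.of k)) := ⟨f⟩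
    haveI : IsSeparated (X ↘ Spec (CommRingCat.of k)) := ‹IsSeparated f›
    haveI : LocallyOfFiniteType (X ↘ Spec (CommRingCat.of k)) := ‹LocallyOfFiniteType f›
    haveI : QuasiCompact (X ↘ Spec (CommRingCat.of k)) := ‹QuasiCompact f›
    exact subsingleton_succ p h0 d
      (as_surjective_of_finite p h0 k d (Groth.Agent.TopFin24.finite_HH_top k X _
        (Groth.Agent.Coherent.isCoh_structureModule X) d hd))
      (subsingleton_Ga X d hd (d + 1) (Nat.lt_succ_self d))
  · exact subsingleton_const X p h0 d hd q h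

end Groth.Agent.AS24
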