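import Groth.Agent.EtASLib.ProperFinite
import Groth.Agent.S0469

/-!
# Vanishing of `H^q(X, ℤ/p)` in characteristic `p`
-/

set_option autoImplicit false
set_option linter.all false
set_option backward.isDefEq.respectTransparency false
set_option backward.isDefEq.respectTransparency.types false
set_option synthInstance.maxHeartbeats 400000
set_option maxHeartbeats 1000000

universe u

open CategoryTheory CategoryTheory.Limits CategoryTheory.Abelian AlgebraicGeometry Opposite

namespace Groth.Agent.AS24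

open Groth.Agent.EtASLib

/-- The long exact sequence of Artin–Schreier in one degree. -/
theorem subsingleton_succ {S : Scheme.{u}} (p : ℕ) [hp : Fact p.Prime] (h0 : (p : Γ(S, ⊤)) = 0) (q : ℕ)
    (hsurj : Function.Surjective ((EtCoh.HF S q).map (asMap p h0)))
    (hG : Subsingleton (EtCoh.H S (EtCoh.Ga S) (q + 1))) :
    Subsingleton (EtCoh.H S (EtCoh.const S (ZMod p)) (q + 1)) := by
  haveI := epi_asMap p h0
  obtain ⟨e⟩ := nonempty_kernel_iso p h0
  let T : ShortComplex (EtCoh.Ab S) := ShortComplex.mk _ _ (kernel.condition (asMap p h0))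
  have hT : T.ShortExact := { exact := ShortComplex.exact_kernel (asMap p h0) }
  refine subsingleton_of_forall_eq 0 fun x => ?_
  let E := ((EtCoh.HF S (q + 1)).mapIso e).addCommGroupIsoToAddEquiv
  refine E.injective ((?_ : E x = 0).trans (map_zero E).symm)
  obtain ⟨y, hy⟩ := Ext.covariant_sequence_exact₁ _ hT (E x) (hG.elim _ _) (rfl : q + 1 = q + 1)
  obtain ⟨y', rfl⟩ := hsurj y
  rw [← hy]
  show (y'.comp (Ext.mk₀ T.g) (add_zero q)).comp hT.extClass rfl = 0
  rw [Ext.comp_assoc_of_second_deg_zero, hT.comp_extClass, Ext.comp_zero]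

/-- Étale `G_a` has no cohomology above the dimension. -/
theorem subsingleton_Ga (X : Scheme.{u}) [CompactSpace X] [QuasiSeparatedSpace X] (d : ℕ)
    (hd : topologicalKrullDim X ≤ d) (q : ℕ) (hq : d < q) :
    Subsingleton (EtCoh.H X (EtCoh.Ga X) q) := by
  haveI : EtZar.ZarCont X := Groth.Agent.Desc19b.EtQCoh.zarCont X
  haveI : SpectralSpace ↥X := {}
  haveI : Subsingleton (Coh.HH X (Coh.structureModule X) q) :=
    Groth.Agent.S0469.result (X := TopCat.of ↥X) d hd (Coh.toAb (Coh.structureModule X)) q hq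
  exact (cmp_bijective q).2.subsingleton

theorem subsingleton_const (X : Scheme.{u}) [CompactSpace X] [QuasiSeparatedSpace X] (p : ℕ)
    [hp : Fact p.Prime] (h0 : (p : Γ(X, ⊤)) = 0) (d : ℕ) (hd : topologicalKrullDim X ≤ d) (q : ℕ)
    (hq : d + 2 ≤ q) : Subsingleton (EtCoh.H X (EtCoh.const X (ZMod p)) q) := by
  obtain ⟨q, rfl⟩ : ∃ r, q = r + 1 := ⟨q - 1, by omega⟩
  exact subsingleton_succ p h0 q (fun y => ⟨0, (subsingleton_Ga X d hd q (by omega)).elim _ _⟩) (subsingleton_Ga X d hd (q + 1) (by omega))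

end Groth.Agent.AS24
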